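import Mathlib
import Cfsg.Agent.Lib.Linear.Card

/-!
A Sylow 2-subgroup of `PSL₃(4)` in Heisenberg coordinates.
-/

set_option autoImplicit false

open Matrix

namespace CfsgLib.SylowL3

variable {F : Type*} [Field F]

/-- The unitriangular element with coordinates `(x, y, z)`. -/
def tri (a : F × F × F) : SpecialLinearGroup (Fin 3) F :=
  ⟨!![1, a.1, a.2.2; 0, 1, a.2.1; 0, 0, 1], by rw [det_fin_three]; simp⟩

theorem coe_tri (a : F × F × F) : ((tri a : SpecialLinearGroup (Fin 3) F) : Matrix (Fin 3) (Fin 3) F) =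
    !![1, a.1, a.2.2; 0, 1, a.2.1; 0, 0, 1] := rfl

theorem tri_mul (a b : F × F × F) :
    tri a * tri b = tri (a.1 + b.1, a.2.1 + b.2.1, a.2.2 + b.2.2 + a.1 * b.2.1) := by
  apply Subtype.ext
  show (tri a : Matrix (Fin 3) (Fin 3) F) * (tri b : Matrix (Fin 3) (Fin 3) F) = _
  simp only [coe_tri]
  ext i j
  fin_cases i <;> fin_cases j <;> simp [Matrix.mul_apply, Fin.sum_univ_three] <;> ring

/-- Over a field with four elements, any group with Heisenberg coordinates is isomorphic to a
Sylow 2-subgroup of `PSL₃`. -/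
theorem exists_sylow_PSL3_four {K : Type} [Field K] [Fintype K] (hK : Fintype.card K = 4)
    {T : Type*} [Group T] (Φ : K × K × K → T) (hΦ : Function.Bijective Φ)
    (hmul : ∀ a b, Φ a * Φ b = Φ (a.1 + b.1, a.2.1 + b.2.1, a.2.2 + b.2.2 + a.1 * b.2.1)) :
    ∃ S : Sylow 2 (ProjectiveSpecialLinearGroup (Fin 3) K),
      Nonempty (T ≃* ↥(S : Subgroup (ProjectiveSpecialLinearGroup (Fin 3) K))) := by
  classical
  haveI : Fact (Nat.Prime 2) := ⟨Nat.prime_two⟩
  let e := Equiv.ofBijective Φ hΦ
  let h : T →* ProjectiveSpecialLinearGroup (Fin 3) K :=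
    (QuotientGroup.mk' (Subgroup.center (SpecialLinearGroup (Fin 3) K))).comp
      (MonoidHom.mk' (fun t => tri (e.symm t)) fun s t => by

        rw [tri_mul]
        congr 1
        rw [e.symm_apply_eq]
        show s * t = Φ _
        rw [← hmul]
        exact (congrArg₂ (· * ·) (e.apply_symm_apply s) (e.apply_symm_apply t)).symm)
  have hinj : Function.Injective h := by
    rw [injective_iff_map_eq_one]
    intro t ht
    have hc : tri (e.symm t) ∈ Subgroup.center (SpecialLinearGroup (Fin 3) K) :=
      (QuotientGroup.eq_one_iff _).mp ht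
    obtain ⟨r, -, hr⟩ := Matrix.SpecialLinearGroup.mem_center_iff.mp hc
    have e01 := congrFun (congrFun hr 0) 1
    have e02 := congrFun (congrFun hr 0) 2
    have e12 := congrFun (congrFun hr 1) 2
    simp [coe_tri] at e01 e02 e12
    have h0 : e.symm t = e.symm 1 := by
      have h1 : e.symm 1 = (0, 0, 0) := by
        rw [e.symm_apply_eq]
        have := hmul (0, 0, 0) (0, 0, 0)
        simp only [add_zero, mul_zero] at this
        exact (mul_eq_left.mp this).symm
      rw [h1]
      exact Prod.ext e01.symm (Prod.ext e12.symm e02.symm)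
    exact e.symm.injective h0
  have hT : Nat.card T = 64 := by
    rw [← Nat.card_congr e, Nat.card_prod, Nat.card_prod, Nat.card_eq_fintype_card, hK]
  have hP : Nat.card (ProjectiveSpecialLinearGroup (Fin 3) K) = 20160 := by
    have h1 := CfsgLib.Linear.card_SL_mul (F := K) 3 (by norm_num)
    have h2 := CfsgLib.Linear.card_PSL_mul (F := K) (n := Fin 3)
    simp only [hK, Fintype.card_fin, Fin.prod_univ_three] at h1 h2
    rw [show Nat.gcd 3 (4 - 1) = 3 by norm_num] at h2
    norm_num at h1
    simp only [Nat.card_eq_fintype_card] at h2 ⊢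
    omega
  have hrange : Nat.card h.range = 64 := by
    rw [← hT]
    exact (Nat.card_congr (MonoidHom.ofInjective hinj).toEquiv).symm
  refine ⟨Sylow.ofCard h.range ?_, ⟨MonoidHom.ofInjective hinj⟩⟩
  have hfac : (20160 : ℕ).factorization 2 = 6 := by
    rw [show (20160 : ℕ) = 2 ^ 6 * 315 by norm_num, Nat.factorization_mul (by norm_num) (by norm_num),
      Finsupp.add_apply, Nat.Prime.factorization_pow Nat.prime_two, Finsupp.single_eq_same,
      Nat.factorization_eq_zero_of_not_dvd (show ¬ 2 ∣ 315 by norm_num)]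
  rw [hrange, hP, hfac]
  norm_num

end CfsgLib.SylowL3
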