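import Mathlib
import Cfsg.Agent.Lib.SylowL3.Basic

/-!
A Sylow 2-subgroup of `PSL₃(2ⁿ)` in Heisenberg coordinates.
-/

set_option autoImplicit false

open Matrix

namespace CfsgLib.SylowL3

variable {K : Type} [Field K] [Fintype K]

/-- The unitriangular elements, in `PSL₃`. -/
def ptri (a : K × K × K) : ProjectiveSpecialLinearGroup (Fin 3) K :=
  QuotientGroup.mk' (Subgroup.center (SpecialLinearGroup (Fin 3) K)) (tri a)

omit [Fintype K] in
theorem ptri_mul (a b : K × K × K) :
    ptri a * ptri b = ptri (a.1 + b.1, a.2.1 + b.2.1, a.2.2 + b.2.2 + a.1 * b.2.1) := by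
  rw [ptri, ptri, ← map_mul, tri_mul]
  rfl

omit [Fintype K] in
theorem ptri_injective : Function.Injective (ptri : K × K × K → ProjectiveSpecialLinearGroup (Fin 3) K) := by
  intro a b hab
  have hc := QuotientGroup.eq.mp hab
  obtain ⟨r, -, hr⟩ := Matrix.SpecialLinearGroup.mem_center_iff.mp hc
  have hm : ((tri b : SpecialLinearGroup (Fin 3) K) : Matrix (Fin 3) (Fin 3) K) =
      r • ((tri a : SpecialLinearGroup (Fin 3) K) : Matrix (Fin 3) (Fin 3) K) := by
    have h1 : ((tri a * ((tri a)⁻¹ * tri b) : SpecialLinearGroup (Fin 3) K) : Matrix (Fin 3) (Fin 3) K) =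
        ((tri b : SpecialLinearGroup (Fin 3) K) : Matrix (Fin 3) (Fin 3) K) := by
      rw [mul_inv_cancel_left]
    rw [← h1]
    show (tri a : Matrix (Fin 3) (Fin 3) K) * _ = _
    rw [← hr]
    ext i j
    simp [mul_comm]
  have e00 := congrFun (congrFun hm 0) 0
  have e01 := congrFun (congrFun hm 0) 1
  have e02 := congrFun (congrFun hm 0) 2
  have e12 := congrFun (congrFun hm 1) 2
  simp [coe_tri] at e00 e01 e02 e12
  subst e00
  rw [one_mul] at e01 e02 e12
  exact Prod.ext e01.symm (Prod.ext e12.symm e02.symm)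

/-- The Sylow 2-subgroups of `PSL₃(2ⁿ)` have Heisenberg coordinates. -/
theorem exists_sylow_coords {n : ℕ} (hn : n ≠ 0) (hK : Fintype.card K = 2 ^ n) :
    ∃ S : Sylow 2 (ProjectiveSpecialLinearGroup (Fin 3) K),
      ∀ x, x ∈ (S : Subgroup (ProjectiveSpecialLinearGroup (Fin 3) K)) ↔ ∃ a, ptri a = x := by
  classical
  haveI : Fact (Nat.Prime 2) := ⟨Nat.prime_two⟩
  let R : Subgroup (ProjectiveSpecialLinearGroup (Fin 3) K) :=
    { carrier := Set.range ptri
      one_mem' := ⟨0, by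
        have h := ptri_mul (0 : K × K × K) 0
        simp only [Prod.fst_zero, Prod.snd_zero, add_zero, mul_zero, Prod.mk_zero_zero] at h
        exact mul_eq_left.mp h⟩
      mul_mem' := by
        rintro _ _ ⟨a, rfl⟩ ⟨b, rfl⟩
        exact ⟨_, (ptri_mul a b).symm⟩
      inv_mem' := by
        rintro _ ⟨a, rfl⟩
        refine ⟨(-a.1, -a.2.1, -a.2.2 + a.1 * a.2.1), (inv_eq_of_mul_eq_one_right ?_).symm⟩
        have h0 : ptri (0 : K × K × K) = 1 := by
          have h := ptri_mul (0 : K × K × K) 0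
          simp only [Prod.fst_zero, Prod.snd_zero, add_zero, mul_zero, Prod.mk_zero_zero] at h
          exact mul_eq_left.mp h
        rw [ptri_mul, ← h0]
        congr 1
        refine Prod.ext ?_ (Prod.ext ?_ ?_) <;> simp }
  have hR : Nat.card R = (2 ^ n) ^ 3 := by
    rw [← hK, ← Nat.card_eq_fintype_card]
    show Nat.card (Set.range (ptri : K × K × K → _)) = _
    rw [Nat.card_range_of_injective ptri_injective, Nat.card_prod, Nat.card_prod]
    ring
  have hP : IsPGroup 2 R := IsPGroup.of_card (n := n * 3) (by rw [hR, pow_mul])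
  have h2 := CfsgLib.Linear.card_PSL_mul (F := K) (n := Fin 3)
  have h1 := CfsgLib.Linear.card_SL_mul (F := K) 3 (by norm_num)
  have hidx : ¬ 2 ∣ R.index := by
    intro hdvd
    have h3 := R.card_mul_index
    rw [hR] at h3
    rw [← h2, ← h3] at h1
    rw [hK, Fin.prod_univ_three] at h1
    simp only [Fin.val_zero, Fin.val_one, Fin.val_two, pow_zero, pow_one] at h1
    obtain ⟨j, rfl⟩ : ∃ j, n = j + 1 := ⟨n - 1, by omega⟩
    set q := 2 ^ (j + 1) with hq
    have hq2 : 2 ∣ q := ⟨2 ^ j, by rw [hq, pow_succ']⟩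
    have hq1 : 1 ≤ q := Nat.one_le_two_pow
    have e1 : q ^ 3 - q = q * (q ^ 2 - 1) := by rw [Nat.mul_sub, mul_one]; ring_nf
    have e2 : q ^ 3 - q ^ 2 = q ^ 2 * (q - 1) := by rw [Nat.mul_sub, mul_one]; ring_nf
    rw [e1, e2] at h1
    have h4 : (q - 1) * (Nat.gcd (Fintype.card (Fin 3)) (q - 1) * R.index) * q ^ 3 =
        (q ^ 3 - 1) * (q ^ 2 - 1) * (q - 1) * q ^ 3 := by
      linear_combination h1
    have h5 := Nat.eq_of_mul_eq_mul_right (show 0 < q ^ 3 by positivity) h4
    have hodd : ∀ m, 1 ≤ m → ¬ 2 ∣ q ^ m - 1 := fun m hm h6 => by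
      have : 2 ∣ q ^ m := hq2.trans (dvd_pow_self q (by omega))
      have : 1 ≤ q ^ m := Nat.one_le_pow _ _ hq1
      omega
    have h7 : 2 ∣ (q ^ 3 - 1) * (q ^ 2 - 1) * (q - 1) := by
      rw [← h5]
      exact dvd_mul_of_dvd_right (dvd_mul_of_dvd_right hdvd _) _
    rcases (Nat.Prime.dvd_mul Nat.prime_two).mp h7 with h8 | h8
    · rcases (Nat.Prime.dvd_mul Nat.prime_two).mp h8 with h9 | h9
      · exact hodd 3 (by norm_num) h9
      · exact hodd 2 (by norm_num) h9
    · exact hodd 1 le_rfl (by rwa [pow_one])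
  exact ⟨hP.toSylow hidx, fun x => Iff.rfl⟩

end CfsgLib.SylowL3
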