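import Mathlib
import Cfsg.Agent.Lib.SylowL3.General
import Cfsg.Agent.Lib.Recog.SL2Module

/-!
The two maximal elementary abelian subgroups of a Sylow 2-subgroup of `PSL₃(4)` and their normalisers.
-/

set_option autoImplicit false

open Matrix

namespace CfsgLib.SylowL3

variable {K : Type*} [Field K]

local notation "SL3" => SpecialLinearGroup (Fin 3) K
local notation "SL2" => SpecialLinearGroup (Fin 2) K
local notation "P3" => ProjectiveSpecialLinearGroup (Fin 3) K

/-- The unitriangular elements, in `PSL₃` over a field in any universe. -/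
def qtri (a : K × K × K) : P3 := QuotientGroup.mk' (Subgroup.center SL3) (tri a)

theorem qtri_mul (a b : K × K × K) :
    qtri a * qtri b = qtri (a.1 + b.1, a.2.1 + b.2.1, a.2.2 + b.2.2 + a.1 * b.2.1) := by
  rw [qtri, qtri, ← map_mul, tri_mul]
  rfl

theorem qtri_zero : qtri (0 : K × K × K) = 1 := by
  have h := qtri_mul (0 : K × K × K) 0
  simp only [Prod.fst_zero, Prod.snd_zero, add_zero, mul_zero, Prod.mk_zero_zero] at h
  exact mul_eq_left.mp h

theorem qtri_injective : Function.Injective (qtri : K × K × K → P3) := by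
  intro a b hab
  have hc := QuotientGroup.eq.mp hab
  obtain ⟨r, -, hr⟩ := Matrix.SpecialLinearGroup.mem_center_iff.mp hc
  have hm : ((tri b : SL3) : Matrix (Fin 3) (Fin 3) K) = r • ((tri a : SL3) : Matrix (Fin 3) (Fin 3) K) := by
    have h1 : ((tri a * ((tri a)⁻¹ * tri b) : SL3) : Matrix (Fin 3) (Fin 3) K) =
        ((tri b : SL3) : Matrix (Fin 3) (Fin 3) K) := by rw [mul_inv_cancel_left]
    rw [← h1]
    show (tri a : Matrix (Fin 3) (Fin 3) K) * _ = _
    rw [← hr]
    ext i j
    simp [mul_comm]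
  have e00 := congrFun (congrFun hm 0) 0
  have e01 := congrFun (congrFun hm 0) 1
  have e02 := congrFun (congrFun hm 0) 2
  have e12 := congrFun (congrFun hm 1) 2
  simp [coe_tri] at e00 e01 e02 e12
  subst e00
  rw [one_mul] at e01 e02 e12
  exact Prod.ext e01.symm (Prod.ext e12.symm e02.symm)

/-- The subgroup with `b = 0`. -/
def rootA : Subgroup P3 where
  carrier := {x | ∃ a c, qtri (a, 0, c) = x}
  one_mem' := ⟨0, 0, qtri_zero⟩
  mul_mem' := by
    rintro _ _ ⟨a, c, rfl⟩ ⟨a', c', rfl⟩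
    exact ⟨a + a', c + c', by rw [qtri_mul]; simp⟩
  inv_mem' := by
    rintro _ ⟨a, c, rfl⟩
    refine ⟨-a, -c, (inv_eq_of_mul_eq_one_right ?_).symm⟩
    rw [qtri_mul, ← qtri_zero]
    congr 1
    simp

/-- The subgroup with `a = 0`. -/
def rootB : Subgroup P3 where
  carrier := {x | ∃ b c, qtri (0, b, c) = x}
  one_mem' := ⟨0, 0, qtri_zero⟩
  mul_mem' := by
    rintro _ _ ⟨b, c, rfl⟩ ⟨b', c', rfl⟩
    exact ⟨b + b', c + c', by rw [qtri_mul]; simp⟩
  inv_mem' := by
    rintro _ ⟨b, c, rfl⟩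
    refine ⟨-b, -c, (inv_eq_of_mul_eq_one_right ?_).symm⟩
    rw [qtri_mul, ← qtri_zero]
    congr 1
    simp

/-- The Levi matrices. -/
def levi (M : SL2) : SL3 :=
  ⟨!![1, 0, 0; 0, M 0 0, M 0 1; 0, M 1 0, M 1 1], by
    have h := M.2
    rw [det_fin_two] at h
    rw [det_fin_three]
    simp
    exact h⟩

theorem coe_levi (M : SL2) : ((levi M : SL3) : Matrix (Fin 3) (Fin 3) K) =
    !![1, 0, 0; 0, M 0 0, M 0 1; 0, M 1 0, M 1 1] := rfl

/-- The Levi embedding. -/
def leviHom : SL2 →* P3 :=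
  MonoidHom.mk' (fun M => QuotientGroup.mk' (Subgroup.center SL3) (levi M)) fun M N => by
    rw [← map_mul]
    congr 1
    apply Subtype.ext
    show (levi (M * N) : Matrix (Fin 3) (Fin 3) K) = (levi M : Matrix (Fin 3) (Fin 3) K) * (levi N : Matrix (Fin 3) (Fin 3) K)
    simp only [coe_levi]
    ext i j
    have hm : ∀ a b : Fin 2, ((M * N : SL2) : Matrix (Fin 2) (Fin 2) K) a b = M a 0 * N 0 b + M a 1 * N 1 b :=
      fun a b => by
        show ((M : Matrix (Fin 2) (Fin 2) K) * (N : Matrix (Fin 2) (Fin 2) K)) a b = _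
        simp [Matrix.mul_apply, Fin.sum_univ_two]
    fin_cases i <;> fin_cases j <;> simp [Matrix.mul_apply, Fin.sum_univ_three, hm]

theorem leviHom_injective : Function.Injective (leviHom : SL2 →* P3) := by
  rw [injective_iff_map_eq_one]
  intro M hM
  have hc : levi M ∈ Subgroup.center SL3 := (QuotientGroup.eq_one_iff _).mp hM
  obtain ⟨r, -, hr⟩ := Matrix.SpecialLinearGroup.mem_center_iff.mp hc
  have e00 := congrFun (congrFun hr 0) 0
  have e11 := congrFun (congrFun hr 1) 1
  have e12 := congrFun (congrFun hr 1) 2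
  have e21 := congrFun (congrFun hr 2) 1
  have e22 := congrFun (congrFun hr 2) 2
  simp [coe_levi] at e00 e11 e12 e21 e22
  apply Subtype.ext
  ext i j
  fin_cases i <;> fin_cases j <;> simp [← e11, ← e22, ← e12, ← e21, e00]

theorem mk_conj_qtri (g : SL3) (a a' : K × K × K)
    (h : (g : Matrix (Fin 3) (Fin 3) K) * (tri a : SL3).1 = (tri a' : SL3).1 * (g : Matrix (Fin 3) (Fin 3) K)) :
    QuotientGroup.mk' (Subgroup.center SL3) g * qtri a * (QuotientGroup.mk' (Subgroup.center SL3) g)⁻¹ = qtri a' := by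
  rw [mul_inv_eq_iff_eq_mul, qtri, qtri, ← map_mul, ← map_mul]
  congr 1
  exact Subtype.ext h

/-- The Levi complement normalises `rootA`. -/
theorem levi_mul_tri (M : SL2) (a c : K) :
    ((levi M : SL3) : Matrix (Fin 3) (Fin 3) K) *
      (tri (M 0 0 * a + M 1 0 * c, 0, M 0 1 * a + M 1 1 * c) : SL3).1 =
    (tri (a, 0, c) : SL3).1 * (levi M : SL3).1 := by
  show (levi M : Matrix (Fin 3) (Fin 3) K) * (tri _ : SL3).1 = _
  simp only [coe_levi, coe_tri]
  ext i j
  fin_cases i <;> fin_cases j <;> simp [Matrix.mul_apply, Fin.sum_univ_three] <;> ring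

/-- The data of one of the two subgroups. -/
structure Half (A : Subgroup P3) : Prop where
  card : Nat.card A = Nat.card K ^ 2
  trans : ∀ x ∈ A, ∀ y ∈ A, x ≠ 1 → y ≠ 1 → ∃ g ∈ Subgroup.normalizer (A : Set P3), g * x * g⁻¹ = y
  compl : ∃ L : Subgroup P3, L ≤ Subgroup.normalizer (A : Set P3) ∧ L ⊓ A = ⊥ ∧
    A ⊔ L = Subgroup.normalizer (A : Set P3) ∧ Nonempty (↥L ≃* SL2)

variable [Finite K]

theorem half_rootA (hcube : ∀ r : K, r ≠ 0 → r ^ 3 = 1) (h2 : ∀ x : K, x + x = 0) :
    Half (rootA : Subgroup P3) := by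
  classical
  have hL : ∀ M : SL2, leviHom M ∈ Subgroup.normalizer ((rootA : Subgroup P3) : Set P3) := by
    have key : ∀ M : SL2, ∀ x ∈ (rootA : Subgroup P3), (leviHom M)⁻¹ * x * leviHom M ∈ (rootA : Subgroup P3) := by
      rintro M _ ⟨a, c, rfl⟩
      refine ⟨M 0 0 * a + M 1 0 * c, M 0 1 * a + M 1 1 * c, ?_⟩
      have h1 := mk_conj_qtri (levi M) _ _ (levi_mul_tri M a c)
      rw [← h1]
      show _ = (leviHom M)⁻¹ * (leviHom M * _ * (leviHom M)⁻¹) * leviHom M
      group
    intro M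
    rw [Subgroup.mem_normalizer_iff]
    intro x
    constructor
    · intro hx
      have h1 := key M⁻¹ x hx
      simpa using h1
    · intro hx
      have h1 := key M _ hx
      simpa [mul_assoc] using h1
  refine ⟨?_, ?_, leviHom.range, ?_, ?_, ?_, ?_⟩
  · rw [sq, ← Nat.card_prod]
    refine (Nat.card_congr (Equiv.ofBijective (fun p : K × K => (⟨qtri (p.1, 0, p.2), p.1, p.2, rfl⟩ : (rootA : Subgroup P3))) ⟨?_, ?_⟩)).symm
    · intro p p' h
      have h1 := qtri_injective (congrArg Subtype.val h)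
      simp only [Prod.mk.injEq] at h1
      exact Prod.ext h1.1 h1.2.2
    · rintro ⟨_, a, c, rfl⟩
      exact ⟨(a, c), rfl⟩
  · have key : ∀ y ∈ (rootA : Subgroup P3), y ≠ 1 →
        ∃ M : SL2, leviHom M * y * (leviHom M)⁻¹ = qtri (1, 0, 0) := by
      rintro _ ⟨a, c, rfl⟩ hne
      by_cases ha : a = 0
      · subst ha
        have hc : c ≠ 0 := fun h0 => hne (by rw [h0]; exact qtri_zero)
        refine ⟨⟨!![0, c; c⁻¹, 0], by rw [det_fin_two]; simp [hc]; exact neg_eq_of_add_eq_zero_left (h2 1)⟩, ?_⟩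
        exact mk_conj_qtri (levi _) _ _ (by
          refine Eq.trans ?_ (levi_mul_tri _ 1 0)
          simp)
      · refine ⟨⟨!![a, c; 0, a⁻¹], by rw [det_fin_two]; simp [ha]⟩, ?_⟩
        exact mk_conj_qtri (levi _) _ _ (by
          refine Eq.trans ?_ (levi_mul_tri _ 1 0)
          simp)
    intro x hx y hy hx1 hy1
    obtain ⟨M, hM⟩ := key x hx hx1
    obtain ⟨N, hN⟩ := key y hy hy1
    refine ⟨(leviHom N)⁻¹ * leviHom M, mul_mem (inv_mem (hL N)) (hL M), ?_⟩
    calc (leviHom N)⁻¹ * leviHom M * x * ((leviHom N)⁻¹ * leviHom M)⁻¹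
        = (leviHom N)⁻¹ * (leviHom M * x * (leviHom M)⁻¹) * leviHom N := by group
      _ = y := by rw [hM, ← hN]; group
  · rintro _ ⟨M, rfl⟩; exact hL M
  · rw [eq_bot_iff]
    rintro _ ⟨⟨M, rfl⟩, a, c, hac⟩
    rw [Subgroup.mem_bot]
    have hc := QuotientGroup.eq.mp (show (QuotientGroup.mk (tri (a, 0, c)) : P3) = QuotientGroup.mk (levi M) from hac)
    obtain ⟨r, -, hr⟩ := Matrix.SpecialLinearGroup.mem_center_iff.mp hc
    have hm : ((levi M : SL3) : Matrix (Fin 3) (Fin 3) K) = r • ((tri (a, 0, c) : SL3) : Matrix (Fin 3) (Fin 3) K) := by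
      have h1 : ((tri (a, 0, c) * ((tri (a, 0, c))⁻¹ * levi M) : SL3) : Matrix (Fin 3) (Fin 3) K) =
          ((levi M : SL3) : Matrix (Fin 3) (Fin 3) K) := by rw [mul_inv_cancel_left]
      rw [← h1]
      show (tri (a, 0, c) : Matrix (Fin 3) (Fin 3) K) * _ = _
      rw [← hr]
      ext i j
      simp [mul_comm]
    have e00 := congrFun (congrFun hm 0) 0
    have e11 := congrFun (congrFun hm 1) 1
    have e12 := congrFun (congrFun hm 1) 2
    have e21 := congrFun (congrFun hm 2) 1
    have e22 := congrFun (congrFun hm 2) 2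
    simp [coe_levi, coe_tri] at e00 e11 e12 e21 e22
    have hM1 : M = 1 := by
      apply Subtype.ext
      ext i j
      fin_cases i <;> fin_cases j <;> simp [e11, e22, e12, e21, ← e00]
    rw [hM1, map_one]
  · refine le_antisymm (sup_le Subgroup.le_normalizer ?_) ?_
    · rintro _ ⟨M, rfl⟩; exact hL M
    intro x hx
    obtain ⟨g, rfl⟩ := QuotientGroup.mk'_surjective (Subgroup.center SL3) x
    -- the entries below the first diagonal entry vanish
    have hrow : ∀ u v : K, (g : Matrix (Fin 3) (Fin 3) K) 1 0 * u = 0 ∧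
        (g : Matrix (Fin 3) (Fin 3) K) 2 0 * u = 0 := by
      intro u v
      obtain ⟨a', c', hac⟩ := (Subgroup.mem_normalizer_iff.mp hx (qtri (u, 0, v))).mp ⟨u, v, rfl⟩
      have hac' : (QuotientGroup.mk (tri (a', 0, c') * g) : P3) = QuotientGroup.mk (g * tri (u, 0, v)) := by
        have h1 : qtri (a', 0, c') * QuotientGroup.mk' (Subgroup.center SL3) g =
            QuotientGroup.mk' (Subgroup.center SL3) g * qtri (u, 0, v) := by rw [hac]; group
        simpa [qtri] using h1
      have hcen := QuotientGroup.eq.mp hac'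
      obtain ⟨r, -, hr⟩ := Matrix.SpecialLinearGroup.mem_center_iff.mp hcen
      set zc := (tri (a', 0, c') * g)⁻¹ * (g * tri (u, 0, v)) with hzc
      have hzz : g * tri (u, 0, v) * g⁻¹ = tri (a', 0, c') * zc := by
        have h1 : tri (a', 0, c') * zc * g = tri (a', 0, c') * g * zc := by
          rw [mul_assoc, ← Subgroup.mem_center_iff.mp hcen g, mul_assoc]
        rw [mul_inv_eq_iff_eq_mul, h1, hzc, mul_inv_cancel_left]
      have htr := congrArg (fun A : SL3 => Matrix.trace (A : Matrix (Fin 3) (Fin 3) K)) hzz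
      have hrone : r = 1 := by
        have e1 : Matrix.trace ((g * tri (u, 0, v) * g⁻¹ : SL3) : Matrix (Fin 3) (Fin 3) K) =
            Matrix.trace ((tri (u, 0, v) : SL3) : Matrix (Fin 3) (Fin 3) K) := by
          show Matrix.trace ((g : Matrix (Fin 3) (Fin 3) K) * (tri (u, 0, v) : SL3).1 * ((g⁻¹ : SL3) : Matrix (Fin 3) (Fin 3) K)) = _
          rw [Matrix.trace_mul_comm, ← Matrix.mul_assoc]
          show Matrix.trace (((g⁻¹ * g : SL3) : Matrix (Fin 3) (Fin 3) K) * _) = _
          rw [inv_mul_cancel]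
          show Matrix.trace ((1 : Matrix (Fin 3) (Fin 3) K) * _) = _
          rw [Matrix.one_mul]
        have e2 : Matrix.trace ((tri (a', 0, c') * zc : SL3) : Matrix (Fin 3) (Fin 3) K) = r + r + r := by
          show Matrix.trace (((tri (a', 0, c') : SL3) : Matrix (Fin 3) (Fin 3) K) * _) = _
          rw [← hr]
          simp [coe_tri, Matrix.trace, Fin.sum_univ_three]
        rw [e1, e2] at htr
        simp [coe_tri, Matrix.trace, Fin.sum_univ_three] at htr
        linear_combination -htr + h2 1 - h2 r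
      have heq : ((g * tri (u, 0, v) : SL3) : Matrix (Fin 3) (Fin 3) K) =
          ((tri (a', 0, c') * g : SL3) : Matrix (Fin 3) (Fin 3) K) := by
        have h1 : g * tri (u, 0, v) = tri (a', 0, c') * g * zc := by rw [hzc, mul_inv_cancel_left]
        rw [h1]
        show ((tri (a', 0, c') * g : SL3) : Matrix (Fin 3) (Fin 3) K) * _ = _
        rw [← hr, hrone, map_one, Matrix.mul_one]
      have h11 := congrFun (congrFun heq 1) 1
      have h21 := congrFun (congrFun heq 2) 1
      change ((g : Matrix (Fin 3) (Fin 3) K) * (tri (u, 0, v) : SL3).1) 1 1 = ((tri (a', 0, c') : SL3).1 * (g : Matrix (Fin 3) (Fin 3) K)) 1 1 at h11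
      change ((g : Matrix (Fin 3) (Fin 3) K) * (tri (u, 0, v) : SL3).1) 2 1 = ((tri (a', 0, c') : SL3).1 * (g : Matrix (Fin 3) (Fin 3) K)) 2 1 at h21
      simp [coe_tri, Matrix.mul_apply, Fin.sum_univ_three] at h11 h21
      exact ⟨mul_eq_zero.mpr h11, mul_eq_zero.mpr h21⟩
    obtain ⟨g10, g20⟩ := hrow 1 0
    rw [mul_one] at g10 g20
    set G := (g : Matrix (Fin 3) (Fin 3) K) with hG
    have hdet : G 0 0 * (G 1 1 * G 2 2 - G 1 2 * G 2 1) = 1 := by
      have h := g.2
      rw [det_fin_three] at h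
      change G 0 0 * G 1 1 * G 2 2 - G 0 0 * G 1 2 * G 2 1 - G 0 1 * G 1 0 * G 2 2 + G 0 1 * G 1 2 * G 2 0
        + G 0 2 * G 1 0 * G 2 1 - G 0 2 * G 1 1 * G 2 0 = 1 at h
      rw [g10, g20] at h
      linear_combination h
    have hd : G 0 0 ≠ 0 := fun h0 => by rw [h0, zero_mul] at hdet; exact zero_ne_one hdet
    set d := (G 0 0)⁻¹ with hdd
    have hd3 : d ^ 3 = 1 := hcube d (inv_ne_zero hd)
    let M : SL2 := ⟨!![d * G 1 1, d * G 1 2; d * G 2 1, d * G 2 2], by
      rw [det_fin_two]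
      simp
      have hd' : d * G 0 0 = 1 := inv_mul_cancel₀ hd
      calc d * G 1 1 * (d * G 2 2) - d * G 1 2 * (d * G 2 1)
          = d * d * (d * G 0 0) * (G 1 1 * G 2 2 - G 1 2 * G 2 1) := by rw [hd']; ring
        _ = d ^ 3 * (G 0 0 * (G 1 1 * G 2 2 - G 1 2 * G 2 1)) := by ring
        _ = 1 := by rw [hd3, hdet, mul_one]⟩
    let zr : SL3 := ⟨d • (1 : Matrix (Fin 3) (Fin 3) K), by
      rw [det_smul, det_one, Fintype.card_fin, hd3, mul_one]⟩
    have hzr : zr ∈ Subgroup.center SL3 := by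
      rw [Matrix.SpecialLinearGroup.mem_center_iff]
      refine ⟨d, by rw [Fintype.card_fin]; exact hd3, ?_⟩
      show _ = d • (1 : Matrix (Fin 3) (Fin 3) K)
      ext i j
      simp [Matrix.scalar, Matrix.one_apply, Matrix.diagonal_apply]
    have hprod : g * zr = levi M * tri (d * G 0 1, 0, d * G 0 2) := by
      apply Subtype.ext
      show G * (d • (1 : Matrix (Fin 3) (Fin 3) K)) = (levi M : SL3).1 * (tri _ : SL3).1
      rw [Matrix.mul_smul, Matrix.mul_one]
      simp only [coe_levi, coe_tri]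
      ext i j
      fin_cases i <;> fin_cases j <;> simp [M, Matrix.mul_apply, Fin.sum_univ_three, g10, g20] <;>
        exact inv_mul_cancel₀ hd
    have hmk : QuotientGroup.mk' (Subgroup.center SL3) g = leviHom M * qtri (d * G 0 1, 0, d * G 0 2) := by
      have h1 := congrArg (QuotientGroup.mk' (Subgroup.center SL3)) hprod
      rw [map_mul, map_mul] at h1
      rw [(QuotientGroup.eq_one_iff zr).mpr hzr |> fun h : QuotientGroup.mk' (Subgroup.center SL3) zr = 1 => h, mul_one] at h1
      exact h1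
    rw [hmk]
    exact mul_mem (Subgroup.mem_sup_right ⟨M, rfl⟩) (Subgroup.mem_sup_left ⟨_, _, rfl⟩)
  · exact ⟨(MonoidHom.ofInjective leviHom_injective).symm⟩

/-- The map underlying the duality automorphism of `SL₃`. -/
noncomputable def dualFun (g : SL3) : SL3 :=
  ⟨(((g⁻¹ : SL3) : Matrix (Fin 3) (Fin 3) K).submatrix Fin.revPerm Fin.revPerm)ᵀ,
    by rw [det_transpose, det_submatrix_equiv_self]; exact (g⁻¹).2⟩

omit [Finite K] in
theorem coe_dualFun (g : SL3) : ((dualFun g : SL3) : Matrix (Fin 3) (Fin 3) K) =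
    (((g⁻¹ : SL3) : Matrix (Fin 3) (Fin 3) K).submatrix Fin.revPerm Fin.revPerm)ᵀ := rfl

omit [Finite K] in
theorem dualFun_mul (g h : SL3) : dualFun (g * h) = dualFun g * dualFun h := by
  apply Subtype.ext
  show ((dualFun (g * h) : SL3) : Matrix (Fin 3) (Fin 3) K) = (dualFun g : SL3).1 * (dualFun h : SL3).1
  rw [coe_dualFun, coe_dualFun, coe_dualFun, _root_.mul_inv_rev, ← Matrix.transpose_mul,
    Matrix.submatrix_mul_equiv]
  rfl

omit [Finite K] in
theorem dualFun_injective : Function.Injective (dualFun : SL3 → SL3) := fun g h e => by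
  have e' := congrArg Subtype.val e
  apply inv_injective
  apply Subtype.ext
  ext i j
  have := congrFun (congrFun e' (Fin.revPerm j)) (Fin.revPerm i)
  simpa [coe_dualFun] using this

/-- The duality automorphism of `SL₃`. -/
noncomputable def dualSL : MulAut SL3 :=
  MulEquiv.ofBijective (MonoidHom.mk' dualFun dualFun_mul)
    (Finite.injective_iff_bijective.mp dualFun_injective)

/-- The duality automorphism of `PSL₃`. -/
noncomputable def dual : MulAut P3 :=
  QuotientGroup.congr (Subgroup.center SL3) (Subgroup.center SL3) dualSL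
    (Subgroup.characteristic_iff_map_eq.mp inferInstance dualSL)

theorem dual_qtri (h2 : ∀ x : K, x + x = 0) (a b c : K) :
    dual (qtri (a, b, c)) = qtri (b, a, c + a * b) := by
  show (QuotientGroup.mk (dualSL (tri (a, b, c))) : P3) = QuotientGroup.mk (tri (b, a, c + a * b))
  congr 1
  apply Subtype.ext
  have hinv : (tri (a, b, c) : SL3)⁻¹ = tri (a, b, c + a * b) := by
    apply inv_eq_of_mul_eq_one_right
    rw [tri_mul, h2, h2, show c + (c + a * b) + a * b = (c + c) + (a * b + a * b) by ring, h2, h2, add_zero]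
    apply Subtype.ext
    rw [coe_tri]
    ext i j
    fin_cases i <;> fin_cases j <;> simp
  show ((dualFun (tri (a, b, c)) : SL3) : Matrix (Fin 3) (Fin 3) K) = _
  rw [coe_dualFun, hinv]
  simp only [coe_tri]
  ext i j
  fin_cases i <;> fin_cases j <;> simp [Fin.revPerm]

theorem Half.map {A : Subgroup P3} (h : Half A) (f : MulAut P3) : Half (A.map f.toMonoidHom) := by
  have hn : (Subgroup.normalizer (A : Set P3)).map f.toMonoidHom =
      Subgroup.normalizer ((A.map f.toMonoidHom : Subgroup P3) : Set P3) :=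
    Subgroup.map_equiv_normalizer_eq A f
  refine ⟨?_, ?_, ?_⟩
  · rw [Subgroup.card_map_of_injective f.injective, h.card]
  · rintro _ ⟨x, hx, rfl⟩ _ ⟨y, hy, rfl⟩ hx1 hy1
    obtain ⟨g, hg, he⟩ := h.trans x hx y hy (fun e => hx1 (by simp [e])) (fun e => hy1 (by simp [e]))
    exact ⟨f g, hn ▸ ⟨g, hg, rfl⟩, by simp [← he]⟩
  · obtain ⟨L, h1, h2, h3, ⟨e⟩⟩ := h.compl
    refine ⟨L.map f.toMonoidHom, hn ▸ Subgroup.map_mono h1, ?_, ?_,
      ⟨(Subgroup.equivMapOfInjective L f.toMonoidHom f.injective).symm.trans e⟩⟩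
    · rw [← Subgroup.map_inf _ _ _ f.injective, h2, Subgroup.map_bot]
    · rw [← Subgroup.map_sup, h3, hn]

theorem half_rootB (hcube : ∀ r : K, r ≠ 0 → r ^ 3 = 1) (h2 : ∀ x : K, x + x = 0) :
    Half (rootB : Subgroup P3) := by
  have h := (half_rootA hcube h2).map dual
  have e : (rootA : Subgroup P3).map dual.toMonoidHom = rootB := by
    ext x
    constructor
    · rintro ⟨_, ⟨a, c, rfl⟩, rfl⟩
      refine ⟨a, c, ?_⟩
      show _ = dual (qtri (a, 0, c))
      rw [dual_qtri h2, mul_zero, add_zero]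
    · rintro ⟨b, c, rfl⟩
      exact ⟨qtri (b, 0, c), ⟨b, c, rfl⟩, by
        show dual (qtri (b, 0, c)) = _
        rw [dual_qtri h2, mul_zero, add_zero]⟩
  rwa [e] at h

end CfsgLib.SylowL3
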